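import Cfsg.Prelude.Def_LocalEven
import Cfsg.Agent.Known.AutPSL2
import Cfsg.Agent.Suz.Aut

/-!
The outer automorphism groups of the simple groups without a section `S₃` are cyclic, generated by an automorphism
with a non-trivial fixed point.
-/

set_option autoImplicit false
set_option linter.style.haveILetI false
set_option linter.unusedSectionVars false

namespace Cfsg.Lib.GoldConsumers

open Subgroup

universe u v

/-- some automorphism with a non-trivial fixed point generates all automorphisms modulo the inner ones -/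
def FixedGen (S : Type u) [Group S] : Prop :=
  ∃ α₀ : MulAut S, (∃ s₀ : S, s₀ ≠ 1 ∧ α₀ s₀ = s₀) ∧ ∀ φ : MulAut S, ∃ (c : S) (j : ℕ), φ = MulAut.conj c * α₀ ^ j

theorem FixedGen.of_equiv {S : Type u} [Group S] {T : Type v} [Group T] (e : S ≃* T) (h : FixedGen T) :
    FixedGen S := by
  obtain ⟨α, ⟨t, ht, hαt⟩, hgen⟩ := h
  refine ⟨MulAut.congr e.symm α, ⟨e.symm t, ?_, ?_⟩, fun φ => ?_⟩
  · simpa using ht
  · simp [MulAut.congr, hαt]
  · obtain ⟨c, j, hc⟩ := hgen (MulAut.congr e φ)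
    refine ⟨e.symm c, j, ?_⟩
    have h1 := congrArg (MulAut.congr e.symm) hc
    rw [map_mul, map_pow] at h1
    have h2 : MulAut.congr e.symm (MulAut.congr e φ) = φ := MulEquiv.ext fun x => by simp [MulAut.congr]
    have h3 : MulAut.congr e.symm (MulAut.conj c) = MulAut.conj (e.symm c) :=
      MulEquiv.ext fun x => by simp [MulAut.congr]
    rw [h2, h3] at h1
    exact h1

section Suzuki

variable {F : Type} [Field F] [Fintype F] {m : ℕ}

theorem fixedGen_suz (Q : Cfsg.Lib.Suz.Par F m) : FixedGen ↥(Cfsg.Sz F m) := by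
  haveI : Fact (Nat.Prime 2) := ⟨Nat.prime_two⟩
  haveI hch : CharP F 2 := Cfsg.Lib.Suz.charP Q
  obtain ⟨fr, hfr⟩ : ∃ fr : F ≃+* F, ∀ x, fr x = x ^ 2 :=
    ⟨RingEquiv.ofBijective (frobenius F 2) (Finite.injective_iff_bijective.1 (frobenius_inj F 2)), fun _ => rfl⟩
  refine ⟨Cfsg.Lib.Suz.fld Q fr, ⟨Cfsg.Lib.Suz.wS Q, ?_, Cfsg.Lib.Suz.fld_wS Q fr⟩, fun φ => ?_⟩
  · intro h
    have := congrArg (fun g : ↥(Cfsg.Sz F m) => g.1.1 0 0) h
    simp [Cfsg.Lib.Suz.wS, Cfsg.Lib.Suz.W] at this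
  · obtain ⟨c, σ, rfl⟩ := Cfsg.Lib.Suz.exists_inner_mul_field Q φ
    letI : Algebra (ZMod 2) F := ZMod.algebra F 2
    obtain ⟨⟨i, hib⟩, hσ⟩ := (FiniteField.bijective_frobeniusAlgEquivOfAlgebraic_pow (ZMod 2) F).2
      (AlgEquiv.ofRingEquiv (f := σ) fun r =>
        DFunLike.congr_fun (Subsingleton.elim ((σ : F →+* F).comp (algebraMap (ZMod 2) F)) (algebraMap (ZMod 2) F)) r)
    refine ⟨c, i, ?_⟩
    rw [← map_pow]
    congr 2
    refine RingEquiv.ext fun x => ?_
    have h1 := DFunLike.congr_fun hσ x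
    simp only [AlgEquiv.coe_pow] at h1
    rw [FiniteField.coe_frobeniusAlgEquivOfAlgebraic_iterate, ZMod.card] at h1
    refine h1.symm.trans ?_
    clear h1 hσ hib
    induction i with
    | zero => simp
    | succ k ih =>
      rw [pow_succ' fr, RingAut.mul_apply, ← ih]
      show x ^ 2 ^ (k + 1) = fr (x ^ 2 ^ k)
      rw [hfr, ← pow_mul, ← pow_succ]

end Suzuki

section Psl

open Cfsg.Lib.Known.AutPSL2

variable {F : Type} [Field F] [Fintype F]

local notation "S" => Matrix.SpecialLinearGroup (Fin 2) F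
local notation "P" => Matrix.ProjectiveSpecialLinearGroup (Fin 2) F

theorem fixedGen_psl {n : ℕ} (hF : Fintype.card F = 3 ^ (2 * n + 1)) : FixedGen P := by
  haveI : Fact (Nat.Prime 3) := ⟨Nat.prime_three⟩
  haveI : CharP F 3 := charP_of_card_eq_prime_pow hF
  letI : Algebra (ZMod 3) F := ZMod.algebra F 3
  let f := 2 * n + 1
  obtain ⟨fr, hfr⟩ : ∃ fr : F ≃ₐ[ZMod 3] F, ∀ i x, (fr ^ i) x = x ^ 3 ^ i := by
    refine ⟨FiniteField.frobeniusAlgEquivOfAlgebraic (ZMod 3) F, fun i x => ?_⟩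
    rw [AlgEquiv.coe_pow, FiniteField.coe_frobeniusAlgEquivOfAlgebraic_iterate, ZMod.card]
  let δ : MulAut P := diagAut (-1 : Fˣ)
  let φ₀ : MulAut P := fieldAut 3 fr
  have hcomm : Commute δ φ₀ := by
    refine Commute.symm ?_
    show fieldAut 3 fr * diagAut (-1 : Fˣ) = diagAut (-1 : Fˣ) * fieldAut 3 fr
    rw [fieldAut_conj_diag]
    congr 2
    exact Units.ext (by simp)
  have hδ2 : δ ^ 2 = 1 := by
    show diagAut (-1 : Fˣ) ^ 2 = 1
    rw [← map_pow, neg_one_sq, map_one]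
  have hφf : φ₀ ^ f = 1 := by
    show fieldAut 3 fr ^ f = 1
    rw [← map_pow, show fr ^ f = 1 from AlgEquiv.ext fun x => by
      rw [hfr, show 3 ^ f = Fintype.card F from hF.symm, FiniteField.pow_card, AlgEquiv.one_apply], map_one]
  have hneg : ¬ IsSquare (-1 : F) := by
    rw [FiniteField.isSquare_neg_one_iff, not_not, hF, Nat.pow_mod, pow_succ, pow_mul]
    norm_num [Nat.mul_mod, Nat.pow_mod]
  let w : S := ⟨!![0, 1; -1, 0], by simp [Matrix.det_fin_two]⟩
  refine ⟨δ * φ₀, ⟨π w, ?_, ?_⟩, fun α => ?_⟩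
  · intro h
    have h1 : w ∈ center S := (QuotientGroup.eq_one_iff w).1 h
    have h2 := congrFun (congrFun (congrArg (fun M : S => (M : Matrix (Fin 2) (Fin 2) F))
      (mem_center_iff.1 h1 (uS (1 : F)))) 0) 0
    rw [Matrix.SpecialLinearGroup.coe_mul, Matrix.SpecialLinearGroup.coe_mul] at h2
    simp [w, coe_uS, Matrix.mul_apply, Fin.sum_univ_two] at h2
  · have e1 : φ₀ (π w) = π w := by
      show π (Matrix.SpecialLinearGroup.map fr.toRingEquiv.toRingHom w) = π w
      congr 1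
      refine sl_ext (Matrix.ext fun i j => ?_)
      show fr (w.1 i j) = w.1 i j
      fin_cases i <;> fin_cases j <;> simp [w]
    have e2 : δ (π w) = π w := by
      show π (conjSL (diagGL (-1 : Fˣ)) w) = π w
      refine QuotientGroup.eq.2 (Matrix.SpecialLinearGroup.mem_center_iff.2 ⟨-1, by simp, ?_⟩)
      rw [cmul, cinv, coe_conjSL, ← map_inv, coe_diagGL, coe_diagGL, inv_neg_one]
      ext i j
      fin_cases i <;> fin_cases j <;>
        simp [w, Matrix.mul_apply, Fin.sum_univ_two, Matrix.adjugate_fin_two, Matrix.scalar_apply]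
    rw [MulAut.mul_apply, e1, e2]
  · obtain ⟨g, a, σ, rfl⟩ := exists_decomp 3 (f := f) (by omega) hF α
    obtain ⟨⟨i, hib⟩, hi⟩ := (FiniteField.bijective_frobeniusAlgEquivOfAlgebraic_pow (ZMod 3) F).2 σ
    have hσ : σ = fr ^ i := AlgEquiv.ext fun x => by
      rw [hfr, ← hi, AlgEquiv.coe_pow, FiniteField.coe_frobeniusAlgEquivOfAlgebraic_iterate, ZMod.card]
    obtain ⟨e, b, hab⟩ : ∃ (e : ℕ) (b : Fˣ), a = b ^ 2 * (-1) ^ e := by
      classical
      by_cases ha : IsSquare (a : F)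
      · obtain ⟨b, hb⟩ := ha
        refine ⟨0, Units.mk0 b (fun h => a.ne_zero (by rw [hb, h, zero_mul])), Units.ext ?_⟩
        simp [hb, sq]
      · have hna : IsSquare (-(a : F)) := by
          rw [← quadraticChar_one_iff_isSquare (neg_ne_zero.2 a.ne_zero), neg_eq_neg_one_mul, map_mul,
            quadraticChar_neg_one_iff_not_isSquare.2 hneg, quadraticChar_neg_one_iff_not_isSquare.2 ha]
          norm_num
        obtain ⟨b, hb⟩ := hna
        refine ⟨1, Units.mk0 b (fun h => a.ne_zero (neg_eq_zero.1 (by rw [hb, h, zero_mul]))), Units.ext ?_⟩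
        simp [sq, ← hb]
    obtain ⟨g', hg'⟩ := diagAut_sq (F := F) b
    refine ⟨g * g', i + (e + i) * f, ?_⟩
    have h1 : δ ^ (i + (e + i) * f) = δ ^ e := by
      rw [← Nat.div_add_mod (i + (e + i) * f) 2, ← Nat.div_add_mod e 2, pow_add, pow_add, pow_mul, pow_mul, hδ2,
        one_pow, one_pow, one_mul, one_mul]
      congr 1
      simp [f, Nat.add_mod, Nat.mul_mod]
      omega
    have h2 : φ₀ ^ (i + (e + i) * f) = φ₀ ^ i := by
      rw [pow_add, mul_comm (e + i) f, pow_mul, hφf, one_pow, mul_one]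
    have h3 : diagAut a = MulAut.conj g' * δ ^ e := by rw [hab, map_mul, map_pow diagAut (-1 : Fˣ), hg']
    rw [hcomm.mul_pow, h1, h2, hσ, h3, map_mul MulAut.conj, map_pow]
    simp only [mul_assoc]
    rfl

end Psl

/-- Suzuki groups and `PSL(2, 3^odd)` -/
theorem fixedGen_of_fam {X : Type u} [Group X] (h : Cfsg.IsSuzukiOrPSL2OddPowerThree X) : FixedGen X := by
  rcases h with ⟨F, _, _, m, hm, hF, ⟨e⟩⟩ | ⟨F, _, _, n, hF, ⟨e⟩⟩
  · have Q : Cfsg.Lib.Suz.Par F m := ⟨hm, hF⟩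
    exact (fixedGen_suz Q).of_equiv (e.trans (Cfsg.Lib.Suz.lieEquiv Q).symm)
  · exact (fixedGen_psl hF).of_equiv e

end Cfsg.Lib.GoldConsumers
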