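import Cfsg.Agent.Goldschmidt.Consequences.SFour
import Cfsg.Agent.Goldschmidt.Final
import Cfsg.Agent.Ree.Field.Final
import Cfsg.Agent.GoldschmidtSFour.Basic

/-!
Non-abelian simple groups without a section `S₃` are Suzuki groups or `PSL(2, 3^odd)`.
-/

set_option autoImplicit false
set_option linter.style.haveILetI false

namespace Cfsg.Lib.GoldConsumers

open Subgroup

universe u

/-- the simple groups without a section `S₃` -/
theorem fam_of_sthree_free {G : Type u} [Group G] [Finite G] [IsSimpleGroup G] (hna : ¬ IsMulCommutative G)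
    (h : ¬ Cfsg.Involves (Equiv.Perm (Fin 3)) G) : Cfsg.IsSuzukiOrPSL2OddPowerThree G :=
  (Cfsg.Agent.S2755.result ((Goldschmidt.sfour_free_iff Goldschmidt.goldProp Ree.Field.noFieldProp hna).1
    fun h4 => h (Cfsg.Lib.GoldschmidtSFour.three_of_four h4))).2.1 h

/-- the composition factors of a group without a section `S₃` -/
theorem comp_of_sthree_free {G : Type u} [Group G] [Finite G] (h : ¬ Cfsg.Involves (Equiv.Perm (Fin 3)) G) :
    Cfsg.IsCompositionKGroupWith Cfsg.IsSuzukiOrPSL2OddPowerThree G := by
  intro H _ N _ hs hn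
  exact fam_of_sthree_free hn fun hi => h (Cfsg.Lib.QdFree.involves_of_injective H.subtype_injective
    (Cfsg.Lib.QuadPair.involves_of_surjective (QuotientGroup.mk'_surjective N) hi))

end Cfsg.Lib.GoldConsumers
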