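import Cfsg.Agent.GoldConsumers.FpfQuotient
import Cfsg.Agent.GoldConsumers.FixedGen
import Cfsg.Agent.GoldConsumers.SThree
import Cfsg.Prelude.Def_KGroupFacts
import Cfsg.Agent.Coprime.SolvableBasics

/-!
Operator groups without fixed points on a group without a section `S₃` make it soluble.
-/

set_option autoImplicit false
set_option linter.style.haveILetI false
set_option linter.unusedSectionVars false

namespace Cfsg.Lib.GoldConsumers

open Subgroup

universe u v

variable {A : Type v} [Group A] [Finite A]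

theorem OperGood.subgroup {n : ℕ} (h : OperGood A n) (B : Subgroup A) : OperGood ↥B n := by
  obtain ⟨K, hK, hn, hr⟩ := h
  refine ⟨K.subgroupOf B, inferInstance, ?_, fun r hp hd hd' => hr r hp hd (hd'.trans ?_)⟩
  · refine Subgroup.isNilpotent_of_ker_le_center
      (QuotientGroup.lift (K.subgroupOf B) ((QuotientGroup.mk' K).comp B.subtype) fun x hx =>
        MonoidHom.mem_ker.2 ((QuotientGroup.eq_one_iff _).2 hx)) fun x hx => ?_
    rw [show x = 1 from ?_]
    exact one_mem _
    rw [MonoidHom.mem_ker] at hx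
    obtain ⟨b, rfl⟩ := QuotientGroup.mk'_surjective _ x
    exact (QuotientGroup.eq_one_iff b).2 ((QuotientGroup.eq_one_iff (b : A)).1 hx)
  · exact card_comap_dvd_of_injective K B.subtype B.subtype_injective

/-- no fixed-point-free action on a group whose automorphisms are generated by one with a fixed point -/
theorem no_fpf_of_fixedGen {S : Type u} [Group S] [Finite S] [IsSimpleGroup S] (hna : ¬ IsMulCommutative S)
    (hgen : FixedGen S) {B : Type v} [Group B] [Finite B] (ψ : B →* MulAut S)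
    (hfpf : ∀ s : S, (∀ b, ψ b s = s) → s = 1) (hgood : OperGood B (Nat.card S)) : False := by
  classical
  obtain ⟨K, hK, hnil, hr⟩ := hgood
  have hconj : Function.Injective (MulAut.conj : S →* MulAut S) := by
    rw [injective_iff_map_eq_one]
    intro s hs
    have hc : s ∈ center S := mem_center_iff.2 fun t => by
      have := DFunLike.congr_fun hs t
      simp only [MulAut.conj_apply, MulAut.one_apply] at this
      calc t * s = (s * t * s⁻¹) * s := by rw [this]
        _ = s * t := by group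
    rcases IsSimpleGroup.eq_bot_or_eq_top_of_normal (center S) inferInstance with h | h
    · exact mem_bot.1 (h ▸ hc)
    · exact absurd ⟨⟨fun a b => ((mem_center_iff.1 (h ▸ mem_top a)) b).symm⟩⟩ hna
  -- inner automorphisms induced by the operators are trivial
  have hinn : ∀ b, ψ b ∈ Cfsg.Inn S → ψ b = 1 := by
    by_contra hcon
    push Not at hcon
    let K' : Subgroup B := K ⊔ ψ.ker
    haveI : K'.Normal := inferInstance
    let M : Subgroup B := (Cfsg.Inn S).comap ψ
    have hKM : ∀ x, x ∈ M → x ∈ K' → ψ x = 1 := by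
      intro x hxM hxK
      have h1 : ψ x ∈ K.map ψ := by
        have h2 : K'.map ψ = K.map ψ := by
          rw [show K' = K ⊔ ψ.ker from rfl, Subgroup.map_sup, show ψ.ker.map ψ = ⊥ from (Subgroup.map_eq_bot_iff _).2 le_rfl,
            sup_bot_eq]
        exact h2 ▸ mem_map_of_mem ψ hxK
      have hco : Nat.Coprime (Nat.card ↥(K.map ψ)) (Nat.card ↥(Cfsg.Inn S)) := by
        refine Nat.coprime_of_dvd fun r hp hd hd' => hr r hp ?_ (hd.trans (Subgroup.card_map_dvd _ ψ))
        exact hd'.trans (card_range_dvd _)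
      exact mem_bot.1 ((Subgroup.disjoint_of_coprime_natCard hco).le_bot (mem_inf.2 ⟨h1, hxM⟩))
    haveI : Group.IsNilpotent (B ⧸ K') :=
      Group.nilpotent_of_surjective (QuotientGroup.map K K' (MonoidHom.id B) le_sup_left) fun x => by
        obtain ⟨b, rfl⟩ := QuotientGroup.mk'_surjective _ x
        exact ⟨b, rfl⟩
    obtain ⟨b, hb, hb1⟩ := hcon
    have hN : M.map (QuotientGroup.mk' K') ≠ ⊥ := fun h =>
      hb1 (hKM b hb ((QuotientGroup.eq_one_iff b).1 (mem_bot.1 (h ▸ mem_map_of_mem _ (show b ∈ M from hb)))))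
    haveI : (M.map (QuotientGroup.mk' K')).Normal :=
      (inferInstance : M.Normal).map _ (QuotientGroup.mk'_surjective _)
    obtain ⟨⟨z, hz⟩, hz1'⟩ := Subgroup.ne_bot_iff_exists_ne_one.1 (Cfsg.Lib.Coprime.inf_center_ne_bot _ hN)
    have hz1 : z ≠ 1 := fun h => hz1' (Subtype.ext h)
    obtain ⟨⟨m, hm, rfl⟩, hzc⟩ := mem_inf.1 hz
    obtain ⟨s, hs⟩ := (show ψ m ∈ Cfsg.Inn S from hm)
    have hs1 : s = 1 := by
      refine hfpf s fun a => hconj ?_
      have hcomm : ψ (a * m * a⁻¹ * m⁻¹) = 1 := by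
        refine hKM _ (mul_mem ((inferInstance : M.Normal).conj_mem m hm a) (inv_mem hm)) ?_
        refine (QuotientGroup.eq_one_iff _).1 ?_
        show QuotientGroup.mk' K' (a * m * a⁻¹ * m⁻¹) = 1
        rw [map_mul, map_mul, map_mul, mem_center_iff.1 hzc (QuotientGroup.mk' K' a), map_inv, map_inv]
        group
      rw [map_mul, map_mul, map_mul, map_inv, map_inv, mul_inv_eq_one] at hcomm
      rw [hs, ← hcomm, ← hs]
      exact MulEquiv.ext fun t => by simp
    refine hz1 ((QuotientGroup.eq_one_iff m).2 (mem_sup_right (MonoidHom.mem_ker.2 ?_)))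
    rw [← hs, hs1, map_one]
  -- so the operators induce a cyclic group
  obtain ⟨α₀, ⟨s₀, hs₀, hα₀⟩, hgen⟩ := hgen
  let q : ↥ψ.range →* MulAut S ⧸ Cfsg.Inn S := (QuotientGroup.mk' _).comp ψ.range.subtype
  have hq : Function.Injective q := by
    rw [injective_iff_map_eq_one]
    intro x hx
    obtain ⟨b, hb⟩ := x.2
    refine Subtype.ext ?_
    rw [← hb]
    exact hinn b (hb ▸ (QuotientGroup.eq_one_iff _).1 hx)
  haveI : IsCyclic (MulAut S ⧸ Cfsg.Inn S) := ⟨⟨QuotientGroup.mk' _ α₀, fun x => by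
    obtain ⟨φ, rfl⟩ := QuotientGroup.mk'_surjective _ x
    obtain ⟨c, j, rfl⟩ := hgen φ
    refine ⟨j, ?_⟩
    rw [map_mul, map_pow, show QuotientGroup.mk' (Cfsg.Inn S) (MulAut.conj c) = 1 from
      (QuotientGroup.eq_one_iff _).2 ⟨c, rfl⟩, one_mul]
    exact zpow_natCast _ j⟩⟩
  haveI : IsCyclic ↥ψ.range := isCyclic_of_injective q hq
  obtain ⟨β, hβ⟩ := IsCyclic.exists_generator (α := ↥ψ.range)
  have hfix : ∀ s : S, (β : MulAut S) s = s → s = 1 := fun s hs => hfpf s fun b => by
    obtain ⟨k, hk⟩ := mem_zpowers_iff.1 (hβ ⟨ψ b, b, rfl⟩)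
    have h2 : ((β : MulAut S)) ∈ MulAction.stabilizer (MulAut S) s := hs
    have h3 := zpow_mem h2 k
    rw [← SubgroupClass.coe_zpow, hk] at h3
    exact h3
  obtain ⟨c, j, hc⟩ := hgen β
  have hbij : Function.Bijective fun x : S => ((β : MulAut S) x)⁻¹ * x := by
    refine Finite.injective_iff_bijective.1 fun x y h => mul_inv_eq_one.1 (hfix _ ?_)
    have h' : x = (β : MulAut S) x * (((β : MulAut S) y)⁻¹ * y) := by
      rw [← show ((β : MulAut S) x)⁻¹ * x = ((β : MulAut S) y)⁻¹ * y from h]; group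
    rw [map_mul, map_inv]
    conv_rhs => rw [h']
    group
  obtain ⟨x, hx : ((β : MulAut S) x)⁻¹ * x = c⟩ := hbij.2 c
  have hx' : c * (α₀ ^ j) x = x := by
    rw [hc, MulAut.mul_apply, MulAut.conj_apply] at hx
    have : x = c * (α₀ ^ j) x * c⁻¹ * c := by
      conv_rhs => arg 2; rw [← hx]
      group
    rw [inv_mul_cancel_right] at this
    exact this.symm
  have hj : (α₀ ^ j) s₀ = s₀ := pow_mem (show α₀ ∈ MulAction.stabilizer (MulAut S) s₀ from hα₀) j
  refine hs₀ (conj_eq_one_iff.1 (hfix (x * s₀ * x⁻¹) ?_))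
  rw [hc, MulAut.mul_apply, MulAut.conj_apply, map_mul, map_mul, map_inv, hj]
  conv_rhs => rw [← hx']
  group

/-- a simple factor of a group without proper invariant normal subgroups carries fixed-point-free operators -/
theorem fpf_stabilizer {G : Type u} [Group G] [Finite G] (φ : A →* MulAut G)
    (hfpf : ∀ g : G, (∀ a, φ a g = g) → g = 1) (S : Subgroup G) (hZ : S ⊓ centralizer (S : Set G) = ⊥)
    (hcomm : ∀ a b : A, S.map (φ a).toMonoidHom ≠ S.map (φ b).toMonoidHom →
      ∀ x ∈ S.map (φ a).toMonoidHom, ∀ y ∈ S.map (φ b).toMonoidHom, x * y = y * x)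
    (s : G) (hs : s ∈ S) (hfix : ∀ a, S.map (φ a).toMonoidHom = S → φ a s = s) : s = 1 := by
  classical
  haveI : Fintype A := Fintype.ofFinite A
  haveI : Fintype G := Fintype.ofFinite G
  let E : Finset G := Finset.univ.image fun a => φ a s
  have hsame : ∀ a b : A, S.map (φ a).toMonoidHom = S.map (φ b).toMonoidHom → φ a s = φ b s := by
    intro a b h
    have h1 : S.map (φ (a⁻¹ * b)).toMonoidHom = S := by
      have e : (φ (a⁻¹ * b)).toMonoidHom = (φ a⁻¹).toMonoidHom.comp (φ b).toMonoidHom :=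
        MonoidHom.ext fun x => by simp
      rw [e, ← map_map, ← h, map_map,
        show (φ a⁻¹).toMonoidHom.comp (φ a).toMonoidHom = MonoidHom.id G from MonoidHom.ext fun x => by simp,
        map_id]
    have h2 := congrArg (φ a) (hfix _ h1)
    rw [← MulAut.mul_apply, ← map_mul, mul_inv_cancel_left] at h2
    exact h2.symm
  have hE : (E : Set G).Pairwise fun x y => Commute (id x) (id y) := by
    intro x hx y hy hne
    obtain ⟨a, -, rfl⟩ := Finset.mem_image.1 hx
    obtain ⟨b, -, rfl⟩ := Finset.mem_image.1 hy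
    exact hcomm a b (fun h => hne (hsame a b h)) _ (mem_map_of_mem _ hs) _ (mem_map_of_mem _ hs)
  have ht : E.noncommProd id hE = 1 := hfpf _ fun a => by
    have himg : E.image (φ a) = E := by
      refine Finset.eq_of_subset_of_card_le (fun y hy => ?_)
        (Finset.card_image_of_injective _ (φ a).injective).ge
      obtain ⟨x, hx, rfl⟩ := Finset.mem_image.1 hy
      obtain ⟨b, -, rfl⟩ := Finset.mem_image.1 hx
      exact Finset.mem_image.2 ⟨a * b, Finset.mem_univ _, by rw [map_mul, MulAut.mul_apply]⟩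
    rw [Finset.map_noncommProd]
    simp only [id_eq]
    simp only [Finset.noncommProd]
    congr 1
    rw [← Finset.image_val_of_injOn (φ a).injective.injOn, himg, Multiset.map_id']
  have hsE : s ∈ E := Finset.mem_image.2 ⟨1, Finset.mem_univ _, by rw [map_one]; rfl⟩
  have hsplit := Finset.mul_noncommProd_erase E hsE id hE
  rw [ht, id_eq] at hsplit
  have hr : (E.erase s).noncommProd id (hE.mono (Finset.erase_subset s E)) ∈ centralizer (S : Set G) := by
    refine noncommProd_mem _ _ fun x hx => ?_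
    obtain ⟨hne, hxE⟩ := Finset.mem_erase.1 hx
    obtain ⟨a, -, rfl⟩ := Finset.mem_image.1 hxE
    refine mem_centralizer_iff.2 fun y hy => ?_
    refine hcomm 1 a (fun h => hne ((hsame 1 a h).symm.trans (by rw [map_one]; rfl))) _ ?_ _ (mem_map_of_mem _ hs)
    exact ⟨y, hy, by rw [map_one]; rfl⟩
  refine mem_bot.1 (hZ ▸ mem_inf.2 ⟨hs, ?_⟩)
  rw [eq_inv_of_mul_eq_one_left hsplit]
  exact inv_mem hr

end Cfsg.Lib.GoldConsumers
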