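import Mathlib
import Cfsg.Agent.Splitting.Basic
import Cfsg.Agent.Coprime.Hall

/-!
Operator groups that are nilpotent modulo a normal subgroup of order prime to the group acted on: absence of fixed
points passes to the quotient by an invariant abelian subgroup of prime power order.
-/

set_option autoImplicit false
set_option linter.style.haveILetI false
set_option linter.unusedSectionVars false

namespace Cfsg.Lib.GoldConsumers

open Subgroup

universe u v

variable {G : Type u} [Group G] [Finite G] {A : Type v} [Group A] [Finite A]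

/-- the operator group is nilpotent modulo a normal subgroup whose order is prime to that of `G` -/
def OperGood (A : Type v) [Group A] (n : ℕ) : Prop :=
  ∃ K : Subgroup A, ∃ _ : K.Normal, Group.IsNilpotent (A ⧸ K) ∧
    ∀ r : ℕ, r.Prime → r ∣ n → ¬ r ∣ Nat.card K

theorem OperGood.of_dvd {n m : ℕ} (h : OperGood A n) (hd : m ∣ n) : OperGood A m := by
  obtain ⟨K, hK, hn, hr⟩ := h
  exact ⟨K, hK, hn, fun r hp hd' => hr r hp (hd'.trans hd)⟩

/-- a normal subgroup of order prime to `p` with a factor group of `p`-power order -/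
theorem OperGood.exists_complement {n p : ℕ} [hp : Fact p.Prime] (h : OperGood A n) (hd : p ∣ n) :
    ∃ Q : Subgroup A, ∃ _ : Q.Normal, ¬ p ∣ Nat.card Q ∧ IsPGroup p (A ⧸ Q) := by
  obtain ⟨K, hK, hn, hr⟩ := h
  obtain ⟨P, N, hN, hc⟩ := Cfsg.Lib.Splitting.hasNormalPComplement_of_nilpotent (G := A ⧸ K) (p := p)
  refine ⟨N.comap (QuotientGroup.mk' K), hN.comap _, ?_, ?_⟩
  · rw [Cfsg.Lib.Coprime.card_comap_mk']
    intro hd'
    rcases hp.out.dvd_mul.1 hd' with h' | h'
    · exact hr p hp.out hd h'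
    · refine P.not_dvd_index ?_
      rwa [hc.index_eq_card]
  · haveI := hN
    obtain ⟨k, hk⟩ := IsPGroup.iff_card.1 P.2
    refine IsPGroup.of_card (n := k) ?_
    rw [← Subgroup.index_eq_card, index_comap_of_surjective _ (QuotientGroup.mk'_surjective K),
      hc.symm.index_eq_card, hk]

/-- the induced action on an invariant subgroup -/
noncomputable def resAct (φ : A →* MulAut G) (L : Subgroup G) (hL : ∀ a, ∀ x ∈ L, φ a x ∈ L) : A →* MulAut L where
  toFun a :=
    { toFun := fun x => ⟨φ a x, hL a x x.2⟩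
      invFun := fun x => ⟨φ a⁻¹ x, hL a⁻¹ x x.2⟩
      left_inv := fun x => Subtype.ext (by
        show φ a⁻¹ (φ a x) = x
        rw [← MulAut.mul_apply, ← map_mul, inv_mul_cancel, map_one]; rfl)
      right_inv := fun x => Subtype.ext (by
        show φ a (φ a⁻¹ x) = x
        rw [← MulAut.mul_apply, ← map_mul, mul_inv_cancel, map_one]; rfl)
      map_mul' := fun x y => Subtype.ext (by simp) }
  map_one' := MulEquiv.ext fun x => Subtype.ext (by simp)
  map_mul' a b := MulEquiv.ext fun x => Subtype.ext (by simp)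

theorem resAct_apply (φ : A →* MulAut G) (L : Subgroup G) (hL : ∀ a, ∀ x ∈ L, φ a x ∈ L) (a : A) (x : L) :
    ((resAct φ L hL a x : L) : G) = φ a x := rfl

/-- the induced action on the quotient by an invariant normal subgroup -/
noncomputable def quotAct (φ : A →* MulAut G) (N : Subgroup G) [N.Normal] (hN : ∀ a, ∀ x ∈ N, φ a x ∈ N) :
    A →* MulAut (G ⧸ N) where
  toFun a := QuotientGroup.congr N N (φ a) (le_antisymm (map_le_iff_le_comap.2 fun x hx => hN a x hx)
    fun x hx => ⟨φ a⁻¹ x, hN a⁻¹ x hx, by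
      show φ a (φ a⁻¹ x) = x
      rw [← MulAut.mul_apply, ← map_mul, mul_inv_cancel, map_one]; rfl⟩)
  map_one' := MulEquiv.ext fun x => QuotientGroup.induction_on x fun g => by
    show ((φ 1 g : G) : G ⧸ N) = g
    rw [map_one]; rfl
  map_mul' a b := MulEquiv.ext fun x => QuotientGroup.induction_on x fun g => by
    show ((φ (a * b) g : G) : G ⧸ N) = ((φ a (φ b g) : G) : G ⧸ N)
    rw [map_mul]; rfl

theorem quotAct_apply (φ : A →* MulAut G) (N : Subgroup G) [N.Normal] (hN : ∀ a, ∀ x ∈ N, φ a x ∈ N) (a : A)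
    (g : G) : quotAct φ N hN a g = ((φ a g : G) : G ⧸ N) := rfl

/-- no fixed points on the quotient by an invariant abelian normal `p`-subgroup -/
theorem fpf_quotient (φ : A →* MulAut G) (hfpf : ∀ g : G, (∀ a, φ a g = g) → g = 1) {p : ℕ} [hp : Fact p.Prime]
    (hgood : OperGood A (Nat.card G)) (N : Subgroup G) [N.Normal] (hN : ∀ a, ∀ x ∈ N, φ a x ∈ N)
    (hNp : IsPGroup p N) (hab : ∀ x ∈ N, ∀ y ∈ N, x * y = y * x) (g : G ⧸ N)
    (hg : ∀ a, quotAct φ N hN a g = g) : g = 1 := by
  classical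
  by_cases hNb : N = ⊥
  · obtain ⟨x, rfl⟩ := QuotientGroup.mk'_surjective N g
    refine (QuotientGroup.eq_one_iff x).2 ?_
    have hx : ∀ a, x⁻¹ * φ a x ∈ N := fun a => QuotientGroup.eq.1 (hg a).symm
    rw [hfpf x fun a => (inv_mul_eq_one.1 (mem_bot.1 (hNb ▸ hx a))).symm]
    exact one_mem _
  letI : CommGroup ↥N :=
    { (inferInstance : Group ↥N) with mul_comm := fun a b => Subtype.ext (hab a a.2 b b.2) }
  obtain ⟨x, rfl⟩ := QuotientGroup.mk'_surjective N g
  have hx : ∀ a, x⁻¹ * φ a x ∈ N := fun a => QuotientGroup.eq.1 (hg a).symm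
  have hpn : p ∣ Nat.card G := by
    obtain ⟨k, hk⟩ := IsPGroup.iff_card.1 hNp
    rcases k with _ | k
    · exact absurd (card_eq_one.1 (by rw [hk, pow_zero])) hNb
    · exact (hk ▸ dvd_pow_self p k.succ_ne_zero).trans (card_subgroup_dvd_card N)
  obtain ⟨Q, hQ, hQp, hAQ⟩ := hgood.exists_complement (p := p) hpn
  let ρ := resAct φ N hN
  let c : A → ↥N := fun a => ⟨x⁻¹ * φ a x, hx a⟩
  have hc : ∀ a b, c (a * b) = c a * ρ a (c b) := fun a b => Subtype.ext (by
    show x⁻¹ * φ (a * b) x = x⁻¹ * φ a x * φ a (x⁻¹ * φ b x)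
    rw [map_mul φ, MulAut.mul_apply, map_mul (φ a), map_inv (φ a)]
    group)
  -- averaging over the complement
  haveI : Fintype ↥Q := Fintype.ofFinite _
  let ν : ↥N := ∏ b : ↥Q, c b
  have hν : ∀ a : ↥Q, ν = c a ^ Nat.card ↥Q * ρ a ν := fun a => by
    show (∏ b : ↥Q, c b) = _
    rw [show ρ a ν = ∏ b : ↥Q, ρ a (c b) from map_prod (ρ a) _ _, Nat.card_eq_fintype_card, ← Finset.card_univ,
      ← Finset.prod_const, ← Finset.prod_mul_distrib]
    exact (Fintype.prod_equiv (Equiv.mulLeft a) _ _ fun b => (hc a b).symm).symm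
  obtain ⟨k, hk⟩ := IsPGroup.iff_card.1 hNp
  have hco : Nat.Coprime (Nat.card ↥Q) (Nat.card ↥N) := by
    rw [hk]; exact ((hp.out.coprime_iff_not_dvd).2 hQp).symm.pow_right k
  let m : ↥N := ((powCoprime hco.symm).symm ν)
  have hm : m ^ Nat.card ↥Q = ν := (powCoprime hco.symm).apply_symm_apply ν
  have hfix : ∀ a : A, a ∈ Q → φ a (x * m) = x * m := fun a ha => by
    have h1 : m = c a * ρ a m := by
      refine (powCoprime hco.symm).injective ?_
      show m ^ Nat.card ↥Q = (c a * ρ a m) ^ Nat.card ↥Q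
      rw [mul_pow, ← map_pow (ρ a), hm]
      exact hν ⟨a, ha⟩
    have h2 : (m : G) = x⁻¹ * φ a x * φ a m := congrArg Subtype.val h1
    rw [map_mul]
    conv_rhs => rw [h2]
    group
  set y := x * (m : G) with hy
  -- the defect is fixed by the complement
  have hd : ∀ a, y⁻¹ * φ a y ∈ N := fun a => by
    rw [show y⁻¹ * φ a y = (m : G)⁻¹ * (x⁻¹ * φ a x) * φ a m by rw [hy, map_mul]; group]
    exact mul_mem (mul_mem (inv_mem m.2) (hx a)) (hN a m m.2)
  have hdQ : ∀ a, ∀ b ∈ Q, φ b (y⁻¹ * φ a y) = y⁻¹ * φ a y := fun a b hb => by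
    have h2 : φ b (φ a y) = φ a y := by
      have hb' : a⁻¹ * b * a ∈ Q := by simpa using hQ.conj_mem b hb a⁻¹
      have := congrArg (φ a) (hfix _ hb')
      rw [← MulAut.mul_apply, ← map_mul, show a * (a⁻¹ * b * a) = b * a by group, map_mul φ] at this
      exact this
    rw [map_mul, map_inv, hfix b hb, h2]
  let M : Subgroup ↥N :=
    { carrier := {z | ∀ b ∈ Q, ρ b z = z}
      one_mem' := fun b _ => map_one _
      mul_mem' := fun {z w} hz hw b hb => by rw [map_mul, hz b hb, hw b hb]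
      inv_mem' := fun {z} hz b hb => by rw [map_inv, hz b hb] }
  have hMinv : ∀ a, ∀ z ∈ M, ρ a z ∈ M := fun a z hz b hb => by
    have hb' : a⁻¹ * b * a ∈ Q := by simpa using hQ.conj_mem b hb a⁻¹
    have := congrArg (ρ a) (hz _ hb')
    rw [← MulAut.mul_apply, ← map_mul, show a * (a⁻¹ * b * a) = b * a by group, map_mul ρ] at this
    exact this
  let μ := resAct ρ M hMinv
  have hker : Q ≤ μ.ker := fun b hb => MonoidHom.mem_ker.2 (MulEquiv.ext fun z => Subtype.ext (z.2 b hb))
  have hR : IsPGroup p μ.range := by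
    refine IsPGroup.of_surjective hAQ (QuotientGroup.lift Q μ.rangeRestrict fun b hb => ?_) fun r => ?_
    · exact MonoidHom.mem_ker.2 (Subtype.ext (MonoidHom.mem_ker.1 (hker hb)))
    · obtain ⟨a, ha⟩ := r.2
      exact ⟨QuotientGroup.mk a, Subtype.ext ha⟩
  have hM1 : M = ⊥ := by
    by_contra hne
    haveI : Fintype ↥M := Fintype.ofFinite _
    have hMp : p ∣ Nat.card ↥M := by
      obtain ⟨j, hj⟩ := IsPGroup.iff_card.1 (hNp.to_subgroup M)
      rcases j with _ | j
      · exact absurd (card_eq_one.1 (by rw [hj, pow_zero])) hne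
      · exact hj ▸ dvd_pow_self p j.succ_ne_zero
    obtain ⟨z, hz, hz1⟩ := hR.exists_fixed_point_of_prime_dvd_card_of_fixed_point ↥M hMp (a := (1 : ↥M))
      (fun r => map_one (r : MulAut ↥M))
    refine hz1 (Subtype.ext (Subtype.ext (hfpf _ fun a => ?_).symm))
    exact congrArg (fun w : ↥M => ((w : ↥N) : G)) (hz ⟨μ a, a, rfl⟩)
  have hy1 : y = 1 := hfpf y fun a => by
    have hmem : (⟨y⁻¹ * φ a y, hd a⟩ : ↥N) ∈ M := fun b hb => Subtype.ext (hdQ a b hb)
    rw [hM1, mem_bot] at hmem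
    exact (inv_mul_eq_one.1 (congrArg Subtype.val hmem)).symm
  refine (QuotientGroup.eq_one_iff x).2 ?_
  have hxm : x = (m : G)⁻¹ := eq_inv_of_mul_eq_one_left hy1
  rw [hxm]
  exact inv_mem m.2

end Cfsg.Lib.GoldConsumers
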