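import Cfsg.Agent.GoldConsumers.Fpf

/-!
A group without a section `S₃` carrying operators without fixed points, nilpotent modulo a normal subgroup of coprime
order, is soluble.
-/

set_option autoImplicit false
set_option linter.style.haveILetI false
set_option linter.unusedSectionVars false

namespace Cfsg.Lib.GoldConsumers

open Subgroup

universe u v

variable {A : Type v} [Group A] [Finite A]

/-- soluble, by induction on the order -/
theorem solvable_of_fpf : ∀ (n : ℕ) (G : Type u) [Group G] [Finite G], Nat.card G ≤ n →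
    ∀ φ : A →* MulAut G, (∀ g : G, (∀ a, φ a g = g) → g = 1) →
      ¬ Cfsg.Involves (Equiv.Perm (Fin 3)) G → OperGood A (Nat.card G) → Group.IsSolvable G := by
  intro n
  induction n with
  | zero =>
    intro G _ _ hn φ _ _ _
    exact absurd hn (Nat.not_le.2 Nat.card_pos)
  | succ n ih =>
    intro G _ _ hn φ hfpf hS3 hgood
    classical
    haveI : Fintype (Subgroup G) := Fintype.ofFinite _
    by_cases hcom : ∀ x y : G, x * y = y * x
    · exact Group.isSolvable_of_comm hcom
    -- invariance under the operators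
    have hinv : ∀ (H : Subgroup G), (∀ a, ∀ x ∈ H, φ a x ∈ H) ↔ ∀ a, H.map (φ a).toMonoidHom ≤ H :=
      fun H => forall_congr' fun a => ⟨fun h => map_le_iff_le_comap.2 h, fun h x hx => h ⟨x, hx, rfl⟩⟩
    by_cases hex : ∃ N : Subgroup G, N.Normal ∧ (∀ a, ∀ x ∈ N, φ a x ∈ N) ∧ N ≠ ⊥ ∧ N ≠ ⊤
    · obtain ⟨N, ⟨hNn, hNi, hNb, hNt⟩, hmin'⟩ := WellFounded.has_min (wellFounded_lt (α := Subgroup G))
        {N | N.Normal ∧ (∀ a, ∀ x ∈ N, φ a x ∈ N) ∧ N ≠ ⊥ ∧ N ≠ ⊤} hex
      have hmin : ∀ M : Subgroup G, (M.Normal ∧ (∀ a, ∀ x ∈ M, φ a x ∈ M) ∧ M ≠ ⊥ ∧ M ≠ ⊤) → M ≤ N → N ≤ M :=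
        fun M hM hle => (eq_or_lt_of_le hle).elim (fun h => h.ge) fun h => absurd h (hmin' M hM)
      haveI := hNn
      have hlt : Nat.card ↥N < Nat.card G := lt_of_le_of_ne (Nat.le_of_dvd Nat.card_pos (card_subgroup_dvd_card N))
        fun h => hNt (eq_top_of_card_eq N h)
      haveI hNs : Group.IsSolvable ↥N := ih ↥N (by omega) (resAct φ N hNi)
        (fun g hg => Subtype.ext (hfpf g fun a => congrArg Subtype.val (hg a)))
        (fun h => hS3 (Cfsg.Lib.QdFree.involves_of_injective N.subtype_injective h))
        (hgood.of_dvd (card_subgroup_dvd_card N))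
      -- the minimal one is abelian
      have hcomm : ⁅N, N⁆ = ⊥ := by
        by_contra hne
        have hle : N ≤ ⁅N, N⁆ := hmin _ ⟨inferInstance, (hinv _).2 fun a => by
            rw [Subgroup.map_commutator]; exact commutator_mono ((hinv N).1 hNi a) ((hinv N).1 hNi a),
          hne, fun h => hNt (eq_top_iff.2 (h.symm.le.trans (commutator_le_self N)))⟩ (commutator_le_self N)
        have htop : ⁅(⊤ : Subgroup ↥N), (⊤ : Subgroup ↥N)⁆ = (⊤ : Subgroup ↥N) := by
          refine map_injective N.subtype_injective ?_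
          rw [map_commutator, ← MonoidHom.range_eq_map, N.range_subtype]
          exact le_antisymm (commutator_le_self N) hle
        obtain ⟨k, hk⟩ := hNs.solvable
        have hd : ∀ i, derivedSeries ↥N i = ⊤ := fun i => by
          induction i with
          | zero => rfl
          | succ i ihi => rw [derivedSeries_succ, ihi, htop]
        rw [hd] at hk
        exact hNb (by rw [← N.range_subtype, MonoidHom.range_eq_map, hk, Subgroup.map_bot])
      have hab : ∀ x ∈ N, ∀ y ∈ N, x * y = y * x := fun x hx y hy =>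
        commutatorElement_eq_one_iff_mul_comm.1 (mem_bot.1 (hcomm ▸ commutator_mem_commutator hx hy))
      -- and of prime power order
      obtain ⟨p, hp, hpd⟩ := Nat.exists_prime_and_dvd (fun h : Nat.card ↥N = 1 => hNb (card_eq_one.1 h))
      haveI : Fact p.Prime := ⟨hp⟩
      let P : Subgroup G :=
        { carrier := {x | x ∈ N ∧ ∃ k : ℕ, x ^ p ^ k = 1}
          one_mem' := ⟨one_mem N, 0, one_pow _⟩
          mul_mem' := fun {x y} hx hy => ⟨mul_mem hx.1 hy.1, by
            obtain ⟨i, hi⟩ := hx.2
            obtain ⟨j, hj⟩ := hy.2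
            refine ⟨i + j, ?_⟩
            rw [(show Commute x y from hab x hx.1 y hy.1).mul_pow, pow_add, pow_mul, hi, one_pow, one_mul,
              mul_comm (p ^ i), pow_mul, hj, one_pow]⟩
          inv_mem' := fun {x} hx => ⟨inv_mem hx.1, by
            obtain ⟨i, hi⟩ := hx.2
            exact ⟨i, by rw [inv_pow, hi, inv_one]⟩⟩ }
      have hPne : P ≠ ⊥ := fun h => by
        obtain ⟨x, hx⟩ := exists_prime_orderOf_dvd_card' p hpd
        have hxP : (x : G) ∈ P := ⟨x.2, 1, by rw [pow_one, ← hx, orderOf_coe x |>.symm, pow_orderOf_eq_one]⟩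
        rw [h, mem_bot] at hxP
        rw [show x = 1 from Subtype.ext hxP, orderOf_one] at hx
        exact hp.one_lt.ne hx
      haveI hPn : P.Normal := ⟨fun x hx g => ⟨hNn.conj_mem x hx.1 g, by
        obtain ⟨i, hi⟩ := hx.2
        exact ⟨i, by rw [conj_pow, hi, mul_one, mul_inv_cancel]⟩⟩⟩
      have hPi : ∀ a, ∀ x ∈ P, φ a x ∈ P := fun a x hx => ⟨hNi a x hx.1, by
        obtain ⟨i, hi⟩ := hx.2
        exact ⟨i, by rw [← map_pow, hi, map_one]⟩⟩
      have hPp : IsPGroup p P := fun x => x.2.2.imp fun k hk => Subtype.ext hk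
      have hPab : ∀ x ∈ P, ∀ y ∈ P, x * y = y * x := fun x hx y hy => hab x hx.1 y hy.1
      have hqlt : Nat.card (G ⧸ P) < Nat.card G := by
        rw [card_eq_card_quotient_mul_card_subgroup P]
        exact lt_mul_of_one_lt_right Nat.card_pos ((one_lt_card_iff_ne_bot P).2 hPne)
      haveI := ih (G ⧸ P) (by omega) (quotAct φ P hPi) (fpf_quotient φ hfpf (p := p) hgood P hPi hPp hPab)
        (fun h => hS3 (Cfsg.Lib.QuadPair.involves_of_surjective (QuotientGroup.mk'_surjective P) h))
        (hgood.of_dvd (card_quotient_dvd_card P))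
      haveI : Group.IsSolvable ↥P := Group.isSolvable_of_comm fun x y => Subtype.ext (hPab x x.2 y y.2)
      exact Group.isSolvable_of_ker_le_range P.subtype (QuotientGroup.mk' P) (by
        rw [QuotientGroup.ker_mk', P.range_subtype])
    · exfalso
      push Not at hex
      have htriv : ∀ N : Subgroup G, N.Normal → (∀ a, ∀ x ∈ N, φ a x ∈ N) → N ≠ ⊥ → N = ⊤ := hex
      have hne : (⊤ : Subgroup G) ≠ ⊥ := fun h => hcom fun x y => by
        rw [mem_bot.1 (h ▸ mem_top x : x ∈ (⊥ : Subgroup G)), one_mul, mul_one]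
      obtain ⟨S, -, hSn, hSb, hSmin⟩ :=
        Cfsg.Lib.Coprime.exists_minimal_normal (inferInstance : (⊤ : Subgroup G).Normal) hne
      haveI := hSn
      let Sa : A → Subgroup G := fun a => S.map (φ a).toMonoidHom
      have hSan : ∀ a, (Sa a).Normal := fun a => hSn.map _ (φ a).surjective
      have hback : ∀ a, (Sa a).map (φ a⁻¹).toMonoidHom = S := fun a => by
        show (S.map _).map _ = S
        rw [map_map, show (φ a⁻¹).toMonoidHom.comp (φ a).toMonoidHom = MonoidHom.id G from
          MonoidHom.ext fun x => by simp, map_id]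
      have hSa1 : Sa 1 = S := by
        show S.map _ = S
        rw [map_one]; exact map_id S
      have hgen : (⨆ a, Sa a) = ⊤ := by
        haveI := hSan
        refine htriv _ (Subgroup.iSup_normal Sa) ((hinv _).2 fun a => ?_) fun h => hSb ?_
        · rw [Subgroup.map_iSup]
          refine iSup_le fun b => le_iSup_of_le (a * b) (le_of_eq ?_)
          show (S.map _).map _ = S.map _
          rw [map_map]
          congr 1
          exact MonoidHom.ext fun x => by simp
        · exact le_bot_iff.1 (h ▸ hSa1.ge.trans (le_iSup Sa 1))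
      -- distinct translates commute
      have hmin' : ∀ (T : Subgroup G), T.Normal → T ≠ ⊥ → ∀ a, T ≤ Sa a → T = Sa a := fun T hT hTb a hle => by
        have h1 : T.map (φ a⁻¹).toMonoidHom = S := (hSmin _ (hT.map _ (φ a⁻¹).surjective)
          (hback a ▸ map_mono hle)).resolve_left
          fun h => hTb ((map_eq_bot_iff_of_injective T (f := (φ a⁻¹).toMonoidHom) (φ a⁻¹).injective).1 h)
        exact map_injective (φ a⁻¹).injective (h1.trans (hback a).symm)
      have hpair : ∀ a b, Sa a ≠ Sa b → ∀ x ∈ Sa a, ∀ y ∈ Sa b, x * y = y * x := fun a b hne' x hx y hy => by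
        haveI := hSan a
        haveI := hSan b
        have hbot : Sa a ⊓ Sa b = ⊥ := by
          by_contra h
          exact hne' ((hmin' _ inferInstance h a inf_le_left).symm.trans (hmin' _ inferInstance h b inf_le_right))
        exact commutatorElement_eq_one_iff_mul_comm.1 (mem_bot.1
          (hbot ▸ commutator_le_inf _ _ (commutator_mem_commutator hx hy)))
      have hna : ¬ IsMulCommutative ↥S := fun hc => hcom fun x y => by
        have hle : ∀ a b, Sa a ≤ centralizer (Sa b : Set G) := fun a b x hx => mem_centralizer_iff.2 fun y hy => by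
          by_cases h : Sa b = Sa a
          · obtain ⟨x₀, hx₀, rfl⟩ := hx
            obtain ⟨y₀, hy₀, rfl⟩ := (h ▸ hy : y ∈ Sa a)
            rw [← map_mul, ← map_mul]
            exact congrArg (φ a).toMonoidHom (congrArg Subtype.val (hc.1.1 ⟨y₀, hy₀⟩ ⟨x₀, hx₀⟩))
          · exact hpair b a h y hy x hx
        have h1 : ∀ a, Sa a ≤ center G := fun a x hx => mem_center_iff.2 fun y => by
          have hy : y ∈ centralizer (Sa a : Set G) :=
            (iSup_le fun b => hle b a : ⨆ b, Sa b ≤ _) (hgen ▸ mem_top y)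
          exact (mem_centralizer_iff.1 hy x hx).symm
        exact (mem_center_iff.1 ((iSup_le h1 : ⨆ b, Sa b ≤ _) (hgen ▸ mem_top x)) y).symm
      -- the minimal normal subgroup is simple
      haveI : Nontrivial ↥S := (nontrivial_iff_ne_bot S).2 hSb
      haveI hsimple : IsSimpleGroup ↥S := ⟨fun T hT => by
        have hnorm : (T.map S.subtype).Normal := by
          refine normalizer_eq_top_iff.1 (eq_top_iff.2 (hgen ▸ iSup_le fun a => ?_))
          by_cases h : Sa a = S
          · intro x hx
            rw [h] at hx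
            refine mem_normalizer_iff.2 fun y => ⟨?_, ?_⟩
            · rintro ⟨t, ht, rfl⟩
              exact ⟨⟨x, hx⟩ * t * ⟨x, hx⟩⁻¹, hT.conj_mem t ht _, rfl⟩
            · rintro ⟨t, ht, he⟩
              refine ⟨⟨x, hx⟩⁻¹ * t * ⟨x, hx⟩, by simpa using hT.conj_mem t ht ⟨x, hx⟩⁻¹, ?_⟩
              show x⁻¹ * (t : G) * x = y
              rw [show (t : G) = x * y * x⁻¹ from he]; group
          · refine le_trans (fun x hx => mem_centralizer_iff.2 ?_) (centralizer_le_normalizer _)
            rintro y ⟨t, -, rfl⟩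
            exact (hpair a 1 (by rwa [hSa1]) x hx t (hSa1.symm ▸ t.2)).symm
        rcases eq_or_ne (T.map S.subtype) ⊥ with h | h
        · exact Or.inl ((map_eq_bot_iff_of_injective _ S.subtype_injective).1 h)
        · refine Or.inr (map_injective S.subtype_injective ?_)
          rw [(hSmin _ hnorm (map_subtype_le T)).resolve_left h, ← MonoidHom.range_eq_map, S.range_subtype]⟩
      have hZ : S ⊓ centralizer (S : Set G) = ⊥ := by
        rcases IsSimpleGroup.eq_bot_or_eq_top_of_normal (center ↥S) inferInstance with h | h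
        · refine (eq_bot_iff_forall _).2 fun x hx => ?_
          have hc : (⟨x, (mem_inf.1 hx).1⟩ : ↥S) ∈ center ↥S := mem_center_iff.2 fun y =>
            Subtype.ext (mem_centralizer_iff.1 (mem_inf.1 hx).2 y y.2)
          have h2 : (⟨x, (mem_inf.1 hx).1⟩ : ↥S) ∈ (⊥ : Subgroup ↥S) := h ▸ hc
          exact congrArg Subtype.val (mem_bot.1 h2)
        · exact absurd ⟨⟨fun a b => ((mem_center_iff.1 (h.symm ▸ mem_top a : a ∈ center ↥S)) b).symm⟩⟩ hna
      let B : Subgroup A :=
        { carrier := {a | Sa a = S}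
          one_mem' := hSa1
          mul_mem' := fun {a b} ha hb => by
            show S.map _ = S
            rw [show (φ (a * b)).toMonoidHom = (φ a).toMonoidHom.comp (φ b).toMonoidHom from
              MonoidHom.ext fun x => by simp, ← map_map, show S.map (φ b).toMonoidHom = S from hb]
            exact ha
          inv_mem' := fun {a} ha => by
            show Sa a⁻¹ = S
            conv_lhs => rw [show Sa a⁻¹ = S.map (φ a⁻¹).toMonoidHom from rfl, ← show Sa a = S from ha]
            exact hback a }
      refine no_fpf_of_fixedGen hna (fixedGen_of_fam (fam_of_sthree_free hna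
        fun h => hS3 (Cfsg.Lib.QdFree.involves_of_injective S.subtype_injective h)))
        (resAct (φ.comp B.subtype) S fun a x hx => (show Sa (a : A) = S from a.2) ▸ mem_map_of_mem _ hx)
        (fun s hs => Subtype.ext (fpf_stabilizer φ hfpf S hZ hpair s s.2 fun a ha =>
          congrArg Subtype.val (hs ⟨a, ha⟩)))
        ((hgood.of_dvd (card_subgroup_dvd_card S)).subgroup B)

end Cfsg.Lib.GoldConsumers
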