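import Cfsg.Agent.GoldConsumers.IrrealUnitary
import Cfsg.Agent.Goldschmidt.Consequences.Core
import Cfsg.Agent.Goldschmidt.Final
import Cfsg.Agent.Ree.Field.Final
import Cfsg.Agent.GoldschmidtSFour.Families
import Cfsg.Agent.Suz.Lie
import Cfsg.Agent.Suz.Group
import Cfsg.Agent.SolvStruct.AltEight.Six
import Cfsg.Agent.OddChar.PF.OddOrder

/-!
The 2-irreal simple groups.
-/

set_option autoImplicit false
set_option linter.style.haveILetI false
set_option linter.unusedSectionVars false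

namespace Cfsg.Lib.GoldConsumers

open Subgroup

universe u

variable {G : Type u} [Group G] [Finite G]

/-- the conclusion of the classification of 2-irreal simple groups -/
def IrrealList (G : Type u) [Group G] : Prop :=
  (∃ (F : Type) (_ : Field F) (_ : Fintype F), 4 ≤ Fintype.card F ∧
      (Fintype.card F % 8 = 0 ∨ Fintype.card F % 8 = 3 ∨ Fintype.card F % 8 = 5) ∧
      Nonempty (G ≃* Matrix.ProjectiveSpecialLinearGroup (Fin 2) F)) ∨
    Cfsg.IsSuzuki G ∨ Cfsg.IsRee G ∨ Cfsg.IsJ1 G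

variable [IsSimpleGroup G]

theorem card_psl_three_lt {F : Type} [Field F] [Fintype F] (h : Fintype.card F = 3)
    (e : G ≃* Matrix.ProjectiveSpecialLinearGroup (Fin 2) F) (hna : ¬ IsMulCommutative G) : False := by
  have hns : ¬ Group.IsSolvable G := fun hs => hna ⟨⟨fun a b => IsSimpleGroup.comm_iff_isSolvable.2 hs a b⟩⟩
  have h60 := Cfsg.Lib.SolvStruct.AltEight.sixty_le hns
  have hc := Cfsg.Lib.Classical.SmallPSL.card_psl (F := F) rfl
  rw [← Nat.card_congr e.toEquiv, h] at hc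
  norm_num at hc
  omega

theorem list_of_abelian (hna : ¬ IsMulCommutative G) (S : Sylow 2 G) (hS : IsMulCommutative (S : Subgroup G)) :
    IrrealList G := by
  rcases Ree.Field.abelian_sylow_two_main Ree.Field.noFieldProp hna S hS with
    ⟨a, ha, F, i1, i2, hF, ⟨e⟩⟩ | ⟨F, i1, i2, h8, ⟨e⟩⟩ | h | h
  · rcases Nat.lt_or_eq_of_le ha with h | rfl
    · refine Or.inl ⟨F, i1, i2, ?_, Or.inl ?_, ⟨e⟩⟩
      · rw [hF]; exact le_trans (by norm_num) (Nat.pow_le_pow_right two_pos ha)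
      · rw [hF, ← Nat.dvd_iff_mod_eq_zero]
        exact (show 8 = 2 ^ 3 by norm_num) ▸ pow_dvd_pow 2 h
    · haveI : Fact (Nat.Prime 5) := ⟨by norm_num⟩
      obtain ⟨g₄⟩ := Cfsg.Agent.S0252.result (F := F) (by rw [hF]; norm_num)
      obtain ⟨g₅⟩ := Cfsg.Agent.S0253.result (F := ZMod 5) (ZMod.card 5)
      exact Or.inl ⟨ZMod 5, inferInstance, inferInstance, by rw [ZMod.card]; norm_num,
        Or.inr (Or.inr (by rw [ZMod.card])), ⟨(e.trans g₄).trans g₅.symm⟩⟩
  · refine Or.inl ⟨F, i1, i2, ?_, Or.inr h8, ⟨e⟩⟩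
    by_contra hlt
    exact card_psl_three_lt (by omega) e hna
  · exact Or.inr (Or.inr (Or.inl h))
  · exact Or.inr (Or.inr (Or.inr h))

/-- two-irreal simple groups -/
theorem irreal_main (hna : ¬ IsMulCommutative G)
    (hirr : ∀ x : G, (∀ r : ℕ, r.Prime → r ∣ orderOf x → r = 2) →
      normalizer ((zpowers x : Subgroup G) : Set G) ≤ centralizer {x}) : IrrealList G := by
  classical
  haveI : Fact (Nat.Prime 2) := ⟨Nat.prime_two⟩
  -- a 2-element conjugate to its inverse is an involution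
  have hreal : ∀ (x g : G) (k : ℕ), x ^ 2 ^ k = 1 → g * x * g⁻¹ = x⁻¹ → x * x = 1 := by
    intro x g k hk hg
    have hn : g ∈ normalizer (zpowers x : Set G) := by
      refine mem_normalizer_iff_map_conj_eq.2 ?_
      rw [MonoidHom.map_zpowers]
      show zpowers (g * x * g⁻¹) = zpowers x
      rw [hg, zpowers_inv]
    have hc := mem_centralizer_singleton_iff.1 (hirr x (fun r hr hd =>
      (Nat.prime_dvd_prime_iff_eq hr Nat.prime_two).1 (hr.dvd_of_dvd_pow (hd.trans (orderOf_dvd_of_pow_eq_one hk)))) hn)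
    rw [hc, mul_inv_cancel_right] at hg
    exact eq_inv_iff_mul_eq_one.1 hg
  obtain ⟨S⟩ : Nonempty (Sylow 2 G) := inferInstance
  have hcomm : ∀ a ∈ (S : Subgroup G), ∀ b ∈ (S : Subgroup G), a * a = 1 → b * b = 1 → a * b = b * a := by
    intro a ha b hb ha2 hb2
    obtain ⟨k, hk⟩ := S.2 ⟨a * b, mul_mem ha hb⟩
    have h := hreal (a * b) a k (congrArg Subtype.val hk) (by
      rw [inv_eq_of_mul_eq_one_right ha2, mul_inv_rev, inv_eq_of_mul_eq_one_right ha2,
        inv_eq_of_mul_eq_one_right hb2, show a * (a * b) * a = a * a * (b * a) by group, ha2, one_mul])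
    calc a * b = (a * b)⁻¹ := (inv_eq_of_mul_eq_one_right h).symm
      _ = b * a := by rw [mul_inv_rev, inv_eq_of_mul_eq_one_right ha2, inv_eq_of_mul_eq_one_right hb2]
  let A : Subgroup G :=
    { carrier := {a | a ∈ (S : Subgroup G) ∧ a * a = 1}
      one_mem' := ⟨one_mem _, one_mul _⟩
      mul_mem' := fun {a b} ha hb => ⟨mul_mem ha.1 hb.1, by
        rw [show a * b * (a * b) = a * (b * a) * b by group, ← hcomm a ha.1 b hb.1 ha.2 hb.2,
          show a * (a * b) * b = a * a * (b * b) by group, ha.2, hb.2, one_mul]⟩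
      inv_mem' := fun {a} ha => ⟨inv_mem ha.1, by rw [← mul_inv_rev, ha.2, inv_one]⟩ }
  have hA : A ≠ ⊥ := by
    have hd : 2 ∣ Nat.card (S : Subgroup G) := S.dvd_card_of_dvd_card (by
      rw [← even_iff_two_dvd, ← Nat.not_odd_iff_even]
      intro ho
      haveI := Cfsg.Agent.PF.isSolvable_of_odd G ho
      exact hna ⟨⟨fun a b => IsSimpleGroup.comm_iff_isSolvable.2 inferInstance a b⟩⟩)
    obtain ⟨a, ha⟩ := exists_prime_orderOf_dvd_card' 2 hd
    rw [← orderOf_coe] at ha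
    refine fun e => ?_
    have hm : (a : G) ∈ A := ⟨a.2, by
      have := pow_orderOf_eq_one (a : G)
      rwa [ha, pow_two] at this⟩
    rw [e, mem_bot] at hm
    rw [hm, orderOf_one] at ha
    omega
  have hc : IsMulCommutative A := ⟨⟨fun a b => Subtype.ext (hcomm a a.2.1 b b.2.1 a.2.2 b.2.2)⟩⟩
  have hsc : Cfsg.IsStronglyClosed A (S : Subgroup G) := ⟨fun a ha => ha.1, fun x hx g hg => ⟨hg, by
    rw [conj_mul, hx.2, mul_one, mul_inv_cancel]⟩⟩
  have habel : ∀ T : Sylow 2 G, (∀ a ∈ (T : Subgroup G), ∀ b ∈ (T : Subgroup G), a * b = b * a) → IrrealList G :=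
    fun T hT => list_of_abelian hna T ⟨⟨fun a b => Subtype.ext (hT a a.2 b b.2)⟩⟩
  rcases Goldschmidt.goldschmidt_of_stronglyClosed Goldschmidt.goldProp Ree.Field.noFieldProp hna S hA hc hsc with
    h | ⟨F, i1, i2, n, hn, hF, ⟨e⟩⟩ | ⟨F, i1, i2, m, hm, hF, ⟨e⟩⟩ | ⟨F, i1, i2, n, hn, hF, ⟨e⟩⟩ |
    ⟨F, i1, i2, q, hq, h5, h8, ⟨e⟩⟩ | h
  · obtain ⟨T, hT⟩ := Cfsg.Lib.GoldschmidtSFour.ree_sylow_comm h
    exact habel T hT
  · refine Or.inl ⟨F, i1, i2, ?_, Or.inl ?_, ⟨e⟩⟩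
    · rw [hF]; exact le_trans (by norm_num) (Nat.pow_le_pow_right two_pos hn)
    · rw [hF, ← Nat.dvd_iff_mod_eq_zero]
      exact (show 8 = 2 ^ 3 by norm_num) ▸ pow_dvd_pow 2 hn
  · refine Or.inr (Or.inl ⟨inferInstance, m, hm, ?_⟩)
    rw [Nat.card_congr (e.trans (Cfsg.Lib.Suz.lieEquiv (⟨hm, hF⟩ : Cfsg.Lib.Suz.Par F m)).symm).toEquiv]
    exact Cfsg.Lib.Suz.card_Sz ⟨hm, hF⟩
  · exfalso
    obtain ⟨x, y, h1, h4, hinv⟩ := psu_real_four hn (hF.trans (by rw [← pow_mul, mul_comm, pow_mul]; norm_num))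
    refine h1 (e.symm.injective ?_)
    rw [map_mul, map_one]
    refine hreal _ (e.symm y) 2 ?_ (by rw [← map_inv, ← map_inv, ← map_mul, ← map_mul, hinv])
    rw [← map_pow, show x ^ 2 ^ 2 = x * x * (x * x) by simp [pow_succ, mul_assoc], h4, map_one]
  · subst hq
    exact Or.inl ⟨F, i1, i2, by omega, Or.inr h8, ⟨e⟩⟩
  · obtain ⟨T, hT⟩ := Cfsg.Lib.GoldschmidtSFour.jOne_sylow_comm h
    exact habel T hT

end Cfsg.Lib.GoldConsumers
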