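import Cfsg.Agent.SuzukiTwo.Unitary

/-!
An element of order four of `PSU₃(2ⁿ)` conjugate to its inverse.
-/

set_option autoImplicit false
set_option linter.style.haveILetI false
set_option linter.unusedSectionVars false

namespace Cfsg.Lib.GoldConsumers

open Cfsg.Lib.Classical Cfsg.Lib.Fusion.PSU Cfsg.Lib.SuzukiTwo.Unitary

theorem real_four {F : Type*} [Field F] [Fintype F] [CharP F 2] {σ : F →+* F} {hσ : IsConj σ} :
    ∃ x y : sylU 3 hσ, x * x ≠ 1 ∧ (x * x) * (x * x) = 1 ∧ y * x * y⁻¹ = x⁻¹ := by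
  obtain ⟨θ, hθ⟩ := hσ.exists_trace_one
  have h2 : (2 : F) = 0 := CharTwo.two_eq_zero
  have hx : θ + σ θ + (1 : F) * σ 1 = 0 := by rw [map_one, mul_one, hθ, CharTwo.add_self_eq_zero]
  have hy : θ * (θ * σ θ) + σ (θ * (θ * σ θ)) + θ * σ θ = 0 := by
    rw [map_mul σ θ (θ * σ θ), hσ.norm_mem]
    linear_combination (θ * σ θ) * hθ + (θ * σ θ) * h2
  set x : sylU 3 hσ := el 1 θ hx with hxd
  set y : sylU 3 hσ := el θ _ hy with hyd
  have hb : bc (x * x) = 0 := by rw [bc_mul, hxd, bc_el, CharTwo.add_self_eq_zero]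
  refine ⟨x, y, fun e => ?_, (sq_eq_one_iff _).2 hb, ?_⟩
  · have := (sq_eq_one_iff x).1 e
    rw [hxd, bc_el] at this
    exact one_ne_zero this
  · have key : x * (y * x) = y := ext_coord (by
      rw [bc_mul, bc_mul, hxd, hyd, bc_el, bc_el]
      linear_combination h2) (by
      rw [cc_mul, cc_mul, bc_mul, hxd, hyd, cc_el, cc_el, bc_el, bc_el, map_add, map_one]
      linear_combination hθ + (θ + 1) * h2)
    calc y * x * y⁻¹ = x⁻¹ * (x * (y * x)) * y⁻¹ := by group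
      _ = x⁻¹ := by rw [key]; group

/-- the unitary groups are not 2-irreal -/
theorem psu_real_four {F : Type*} [Field F] [Fintype F] {n : ℕ} (hn : 2 ≤ n)
    (hF : Fintype.card F = (2 ^ n) ^ 2) :
    ∃ x y : Cfsg.PSU 3 F (2 ^ n), x * x ≠ 1 ∧ (x * x) * (x * x) = 1 ∧ y * x * y⁻¹ = x⁻¹ := by
  classical
  haveI : CharP F 2 := by
    refine CharTwo.of_one_ne_zero_of_two_eq_zero one_ne_zero ?_
    have h0 : ((Fintype.card F : ℕ) : F) = 0 := FiniteField.cast_card_eq_zero F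
    rw [hF, ← pow_mul, Nat.cast_pow, Nat.cast_ofNat] at h0
    exact (pow_eq_zero_iff (by omega)).mp h0
  set hσ := powConj_isConj hF
  obtain ⟨E⟩ := exists_equiv hF 3
  set π : antiSU 3 hσ →* Cfsg.PSU 3 F (2 ^ n) :=
    (QuotientGroup.mk' (Subgroup.center (Cfsg.SU 3 F (2 ^ n)))).comp E.toMonoidHom
  obtain ⟨x, y, h1, h4, hinv⟩ := real_four (hσ := hσ)
  refine ⟨π x, π y, fun e => ?_, by rw [← map_mul, ← map_mul, ← Subgroup.coe_mul, ← Subgroup.coe_mul, h4,
    Subgroup.coe_one, map_one], by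
    rw [← map_inv, ← map_inv, ← map_mul, ← map_mul, ← Subgroup.coe_inv, ← Subgroup.coe_inv, ← Subgroup.coe_mul,
      ← Subgroup.coe_mul, hinv]⟩
  set w : antiSU 3 hσ := ((x * x : sylU 3 hσ) : antiSU 3 hσ) with hw
  have hz : E w ∈ Subgroup.center (Cfsg.SU 3 F (2 ^ n)) := by
    refine (QuotientGroup.eq_one_iff _).mp ?_
    show π w = 1
    rw [hw, Subgroup.coe_mul, map_mul, e]
  have h3 : (E w) ^ 3 = 1 := by
    have hg := congrArg Subtype.val (pow_card_eq_one' (G := Subgroup.center (Cfsg.SU 3 F (2 ^ n))) (x := ⟨E w, hz⟩))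
    rw [card_center_SU hF (show 2 ≤ 3 by omega)] at hg
    obtain ⟨k, hk⟩ := Nat.gcd_dvd_left 3 (2 ^ n + 1)
    have hg' : (E w) ^ Nat.gcd 3 (2 ^ n + 1) = 1 := hg
    calc (E w) ^ 3 = ((E w) ^ Nat.gcd 3 (2 ^ n + 1)) ^ k := by rw [← pow_mul, ← hk]
      _ = 1 := by rw [hg', one_pow]
  have h2' : w * w = 1 := by rw [hw, ← Subgroup.coe_mul, h4, Subgroup.coe_one]
  have hw1 : w = 1 := by
    refine E.injective ?_
    rw [pow_succ, pow_two, ← map_mul, h2', map_one, one_mul] at h3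
    rw [h3, map_one]
  exact h1 (Subtype.ext hw1)

end Cfsg.Lib.GoldConsumers
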