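import Cfsg.Agent.GoldConsumers.SThree
import Cfsg.Agent.PiHomogOdd.Basic
import Cfsg.Agent.Suz.SolubCount

/-!
π-homogeneous groups of order prime to three, π odd, are π′-closed.
-/

set_option autoImplicit false
set_option linter.style.haveILetI false
set_option linter.unusedSectionVars false

namespace Cfsg.Lib.GoldConsumers

open Subgroup Cfsg.Lib.PiHomog Cfsg.Lib.Suz Cfsg.Lib.Suz.Solub Cfsg.Lib.Suz.Sub

universe u

/-- every element of odd prime order of a Suzuki group is inverted by an involution -/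
theorem suz_real {F : Type} [Field F] [Fintype F] {m : ℕ} (Q : Cfsg.Lib.Suz.Par F m) {y : Cfsg.Sz F m} {p : ℕ}
    (hp : p.Prime) (hp2 : p ≠ 2) (hy : orderOf y = p) : ∃ i, i * i = 1 ∧ i * y * i⁻¹ = y⁻¹ := by
  have hg : Semi Q y := semi_of_odd Q (fun e => by rw [e, orderOf_one] at hy; exact hp.ne_one hy.symm)
    (hy ▸ hp.odd_of_ne_two hp2)
  have h2 : 2 ∣ Nat.card (nor y) := by
    rcases nor_card Q hg with ⟨-, e⟩ | ⟨-, e⟩ <;> rw [e] <;> exact Dvd.dvd.mul_right (by norm_num) _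
  haveI : Fact (Nat.Prime 2) := ⟨Nat.prime_two⟩
  obtain ⟨i, hi⟩ := exists_prime_orderOf_dvd_card' 2 h2
  rw [← orderOf_coe] at hi
  exact ⟨i, by rw [← pow_two, ← hi, pow_orderOf_eq_one], inv_tor Q hg hi i.2 (mem_tor.2 (Commute.refl y))⟩

/-- the π′-elements form a subgroup -/
theorem pi_three_main {G : Type u} [Group G] [Finite G] (π : Set ℕ) (hodd : ∀ p ∈ π, p.Prime ∧ p ≠ 2)
    (h3 : ¬ 3 ∣ Nat.card G)
    (hhom : ∀ H : Subgroup G, H ≠ ⊥ → (∀ p : ℕ, p.Prime → p ∣ Nat.card ↥H → p ∈ π) →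
      ∀ p : ℕ, p.Prime → p ∣ (centralizer (H : Set G)).relIndex (normalizer (H : Set G)) → p ∈ π) :
    ∃ K : Subgroup G, ∀ x : G, x ∈ K ↔ ∀ p : ℕ, p.Prime → p ∣ orderOf x → p ∉ π := by
  refine closed_of_simple_gen (π := π) (fun X _ _ => Hom π X ∧ ¬ 3 ∣ Nat.card X) (fun _ _ _ h => h.1)
    (fun _ _ _ h M => ⟨h.1.subgroup M, fun hd => h.2 (hd.trans (card_subgroup_dvd_card M))⟩)
    (fun _ _ _ h N _ hN => ⟨hN.elim (h.1.quot_pi N) (h.1.quot_piPrime N),
      fun hd => h.2 (hd.trans (card_quotient_dvd_card N))⟩) ?_ G ⟨?_, h3⟩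
  · intro X _ _ _ hna h _ hne
    push Not at hne
    obtain ⟨p, hp, hd, hpπ⟩ := hne
    haveI := Fact.mk hp
    rcases fam_of_sthree_free hna (GoldschmidtSFour.not_involves_three_of_card h.2) with
      ⟨F, i1, i2, m, hm, hF, ⟨e⟩⟩ | ⟨F, i1, i2, n, hF, ⟨e⟩⟩
    · have Q : Cfsg.Lib.Suz.Par F m := ⟨hm, hF⟩
      let f := e.trans (lieEquiv Q).symm
      obtain ⟨y, hy⟩ := exists_prime_orderOf_dvd_card' p hd
      obtain ⟨i, hi, hinv⟩ := suz_real Q hp (hodd p hpπ).2 (y := f y) (by rw [MulEquiv.orderOf_eq, hy])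
      refine h.1.no_real (fun q hq => (hodd q hq).2) hp hpπ hy (t := f.symm i)
        (by rw [← map_mul, hi, map_one]) (f.injective ?_)
      rw [map_mul, map_mul, map_inv, map_inv, MulEquiv.apply_symm_apply, hinv]
    · exfalso
      refine h.2 ?_
      rw [Nat.card_congr e.toEquiv]
      have hc := Cfsg.Lib.Classical.SmallPSL.card_psl (F := F) rfl
      refine (Nat.Coprime.dvd_of_dvd_mul_left (m := Nat.gcd 2 (Fintype.card F - 1)) ?_ ?_)
      · exact Nat.Coprime.coprime_dvd_right (Nat.gcd_dvd_left _ _) (by norm_num)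
      · rw [hc]
        exact Dvd.dvd.mul_right (hF ▸ dvd_pow_self 3 (Nat.succ_ne_zero _)) _
  intro H hH p hp hpπ x hx hk
  by_cases hb : H = ⊥
  · subst hb
    exact mem_centralizer_iff.2 fun a ha => by rw [mem_bot.1 ha, one_mul, mul_one]
  by_contra hxC
  set N := normalizer (H : Set G)
  set C := (centralizer (H : Set G)).subgroupOf N
  haveI : C.Normal := inferInstance
  have hq1 : ((⟨x, hx⟩ : N) : N ⧸ C) ≠ 1 := fun e => hxC (mem_subgroupOf.1 ((QuotientGroup.eq_one_iff _).1 e))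
  obtain ⟨k, hk⟩ := hk
  refine hpπ (hhom H hb hH p hp ?_)
  have hd : orderOf ((⟨x, hx⟩ : N) : N ⧸ C) ∣ p ^ k := by
    rw [← hk, ← Subgroup.orderOf_mk x hx]; exact orderOf_map_dvd (QuotientGroup.mk' C) _
  obtain ⟨j, -, hj⟩ := (Nat.dvd_prime_pow hp).1 hd
  rcases j with _ | j
  · exact absurd (orderOf_eq_one_iff.1 (by rw [hj, pow_zero])) hq1
  · exact (dvd_pow_self p j.succ_ne_zero).trans (hj ▸ orderOf_dvd_natCard _)

end Cfsg.Lib.GoldConsumers
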